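import Groth.Agent.ZClosLib.CohDescent
import Groth.Agent.QCoh.LocFree
import Groth.Agent.KFlatLib.Scheme.Pullback
import Mathlib.RingTheory.Flat.FaithfullyFlat.Algebra

/-!
# Finite presentation and finite local freeness descend along fpqc morphisms
-/

set_option autoImplicit false
set_option backward.isDefEq.respectTransparency false
set_option backward.isDefEq.respectTransparency.types false
set_option linter.style.haveILetI false

universe u

open CategoryTheory CategoryTheory.Limits AlgebraicGeometry TopologicalSpace Opposite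
open scoped TensorProduct

namespace Groth.Agent.FTDescent

theorem finitePresentation_of_forall_baseChange {A M : Type u} [CommRing A] [AddCommGroup M] [Module A M]
    {ι : Type*} [Finite ι] (B : ι → Type u) [∀ j, CommRing (B j)] [∀ j, Algebra A (B j)]
    [∀ j, Module.Flat A (B j)]
    (hcov : ∀ p : PrimeSpectrum A, ∃ (j : ι) (P : PrimeSpectrum (B j)),
      PrimeSpectrum.comap (algebraMap A (B j)) P = p)
    (hfp : ∀ j, Module.FinitePresentation (B j) (B j ⊗[A] M)) : Module.FinitePresentation A M := by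
  haveI : Module.Finite A M := ZClosLib.finite_of_forall_baseChange B hcov fun j => inferInstance
  obtain ⟨n, l, hl⟩ := Module.Finite.exists_fin' A M
  refine Module.finitePresentation_of_surjective l hl ?_
  suffices h : Module.Finite A (LinearMap.ker l) from Module.Finite.iff_fg.1 h
  refine ZClosLib.finite_of_forall_baseChange B hcov fun j => ?_
  let i := (LinearMap.ker l).subtype.baseChange (B j)
  have hi : Function.Injective i :=
    Module.Flat.lTensor_preserves_injective_linearMap (M := B j) _ (LinearMap.ker l).injective_subtype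
  have hsurj : Function.Surjective (l.baseChange (B j)) := LinearMap.lTensor_surjective (B j) hl
  have hex : Function.Exact i (l.baseChange (B j)) := lTensor_exact (B j) l.exact_subtype_ker_map hl
  have hker : (LinearMap.ker (l.baseChange (B j))).FG := Module.FinitePresentation.fg_ker _ hsurj
  rw [LinearMap.exact_iff.1 hex] at hker
  haveI : Module.Finite (B j) (LinearMap.range i) := Module.Finite.iff_fg.2 hker
  exact Module.Finite.equiv (LinearEquiv.ofInjective i hi).symm

variable {X X' : Scheme.{u}} (f : X' ⟶ X)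

theorem isFP_of_pullback [Flat f] [Surjective f] [QuasiCompact f] {M : X.Modules} (hM : Coh.IsQCoh M)
    (h : CohB1.IsFP ((Scheme.Modules.pullback f).obj M)) : CohB1.IsFP M := by
  let N := (Scheme.Modules.pullback f).obj M
  refine (QCoh.isFP_iff hM).2 fun ⟨V, hV⟩ => ?_
  have hcpt : IsCompact ((f ⁻¹ᵁ V : X'.Opens) : Set X') := f.isCompact_preimage hV.isCompact
  choose W hW hxW hWle using fun x : ↥(f ⁻¹ᵁ V) =>
    exists_isAffineOpen_mem_and_subset (x := x.1) (U := f ⁻¹ᵁ V) x.2
  obtain ⟨s, hs⟩ := hcpt.elim_finite_subcover (fun x => (W x : Set X')) (fun x => (W x).2)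
    (fun x hx => Set.mem_iUnion.2 ⟨⟨x, hx⟩, hxW ⟨x, hx⟩⟩)
  have hle : ∀ x, W x ≤ f ⁻¹ᵁ V := fun x => hWle x
  letI : ∀ x : s, Algebra Γ(X, V) Γ(X', W x.1) := fun x => (f.appLE V (W x.1) (hle x.1)).hom.toAlgebra
  haveI : ∀ x : s, Module.Flat Γ(X, V) Γ(X', W x.1) := fun x => f.flat_appLE hV (hW x.1) (hle x.1)
  refine finitePresentation_of_forall_baseChange (fun x : s => Γ(X', W x.1)) (fun p => ?_) fun x => ?_
  · obtain ⟨y, hy, rfl⟩ := QCoh.exists_point hV p
    obtain ⟨x', rfl⟩ := f.surjective y
    obtain ⟨x, hxs, hx⟩ := Set.mem_iUnion₂.1 (hs hy)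
    refine ⟨⟨x, hxs⟩, (hW x).primeIdealOf ⟨x', hx⟩, PrimeSpectrum.ext (Ideal.ext fun a => ?_)⟩
    show f.appLE V (W x) (hle x) a ∈ ((hW x).primeIdealOf ⟨x', hx⟩).asIdeal ↔ _
    rw [← not_iff_not, ← QCoh.mem_basicOpen_iff_notMem (hW x) hx, Scheme.basicOpen_appLE,
      ← QCoh.mem_basicOpen_iff_notMem hV hy]
    exact ⟨fun h => h.2, fun h => ⟨hx, h⟩⟩
  · letI : Module Γ(X, V) Γ(N, W x.1) := Module.compHom _ (f.appLE V (W x.1) (hle x.1)).hom
    haveI : IsScalarTower Γ(X, V) Γ(X', W x.1) Γ(N, W x.1) := .of_algebraMap_smul fun _ _ => rfl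
    haveI := QCoh.finitePresentation_of_isFP h (hW x.1)
    let l : Γ(M, V) →ₗ[Γ(X, V)] Γ(N, W x.1) :=
      { toFun := QCoh.pullSec f M (hle x.1)
        map_add' := QCoh.pullSec_add f M (hle x.1)
        map_smul' := fun r m => QCoh.pullSec_smul f M (hle x.1) r m }
    exact Module.FinitePresentation.of_equiv
      (QCoh.isBaseChange_pullback hV f (hW x.1) hM (hle x.1) (fun _ => rfl) l fun _ => rfl).equiv.symm

theorem flat_of_extend {R S : CommRingCat.{u}} (φ : R ⟶ S) (hφ : φ.hom.Flat) [IsLocalRing R] [IsLocalRing S]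
    [IsLocalHom φ.hom] {M : ModuleCat.{u} R} (h : Module.Flat S ((ModuleCat.extendScalars φ.hom).obj M)) :
    Module.Flat R M := by
  letI := φ.hom.toAlgebra
  haveI : IsLocalHom (algebraMap R S) := inferInstanceAs (IsLocalHom φ.hom)
  haveI : Module.Flat R S := hφ
  haveI : Module.FaithfullyFlat R S := Module.FaithfullyFlat.of_flat_of_isLocalHom
  haveI : Module.Flat S (S ⊗[R] M) := h
  exact Module.Flat.of_flat_tensorProduct (R := R) (M := M) S

theorem isFinLocFree_of_pullback [Flat f] [Surjective f] [QuasiCompact f] {M : X.Modules} (hM : Coh.IsQCoh M)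
    (h : FlatMod.IsFinLocFree ((Scheme.Modules.pullback f).obj M)) : FlatMod.IsFinLocFree M := by
  refine QCoh.isFlat_and_isFP_iff.1 ⟨fun y => ?_, isFP_of_pullback f hM (QCoh.isFP_of_isFinLocFree h)⟩
  obtain ⟨x, rfl⟩ := f.surjective y
  have h1 : Module.Flat (X'.presheaf.stalk x)
      ((DerSch.stalkFunctor X' x).obj ((Scheme.Modules.pullback f).obj M)) := (QCoh.isFlat_and_isFP_iff.2 h).1 x
  haveI h2 : Module.Flat (X'.presheaf.stalk x)
      ((Scheme.Modules.pullback f ⋙ DerSch.stalkFunctor X' x).obj M) := h1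
  exact flat_of_extend (f.stalkMap x) (Flat.stalkMap f x) (M := (DerSch.stalkFunctor X (f.base x)).obj M)
    (Module.Flat.of_linearEquiv ((KFlatLib.stalkPullbackIso f x).app M).toLinearEquiv.symm)

end Groth.Agent.FTDescent
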