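import Groth.Prelude.Def_Coh
import Groth.Prelude.Def_FlatMod2
import Groth.Agent.FDescent.ModEpi
import Groth.Agent.KFlatLib.Scheme.PullTensor
import Groth.Agent.FDescent.StalkFinite
import Mathlib.AlgebraicGeometry.Morphisms.Flat
import Mathlib.RingTheory.Finiteness.Descent

/-!
# Finite type modules descend along flat surjective open maps
-/

set_option autoImplicit false
set_option linter.style.haveILetI false
set_option backward.isDefEq.respectTransparency false
set_option backward.isDefEq.respectTransparency.types false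

universe u

open CategoryTheory CategoryTheory.Limits AlgebraicGeometry Opposite TopologicalSpace
open scoped TensorProduct

namespace Groth.Agent.FTDescent

variable {X Y : Scheme.{u}}

theorem germ_res' (M : X.Modules) {U V : X.Opens} (i : V ⟶ U) {x : X} (hx : x ∈ V) (s : Γ(M, U)) :
    M.presheaf.germ V x hx (M.presheaf.map i.op s) = M.presheaf.germ U x (i.le hx) s :=
  TopCat.Presheaf.germ_res_apply M.presheaf i x hx s

/-- Germs of linear combinations. -/
theorem germ_mem_span' {M : X.Modules} {W : X.Opens} {x : X} (hx : x ∈ W) {ι : Type*} (w : ι → Γ(M, W))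
    (T : Submodule (X.presheaf.stalk x) (M.presheaf.stalk x)) (hw : ∀ j, M.presheaf.germ W x hx (w j) ∈ T)
    (z : Γ(M, W)) (hz : z ∈ Submodule.span Γ(X, W) (Set.range w)) : M.presheaf.germ W x hx z ∈ T := by
  induction hz using Submodule.span_induction with
  | mem a ha =>
    obtain ⟨j, rfl⟩ := ha
    exact hw j
  | zero => rw [map_zero]; exact T.zero_mem
  | add a b _ _ ha hb => rw [map_add]; exact T.add_mem ha hb
  | smul r a _ ha =>
    have e := PresheafOfModules.germ_smul (M := M.val) x W hx r a
    exact (congrArg (· ∈ T) e).mpr (T.smul_mem _ ha)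

/-- A germ in the span of germs comes from a section in the span nearby. -/
theorem exists_res_mem_span (M : X.Modules) {W : X.Opens} {n : ℕ} (t : Fin n → Γ(M, W)) (m : Γ(M, W)) {y : X}
    (hy : y ∈ W)
    (h : M.presheaf.germ W y hy m ∈
      Submodule.span (X.presheaf.stalk y) (Set.range fun i => M.presheaf.germ W y hy (t i))) :
    ∃ (W' : X.Opens) (j : W' ⟶ W), y ∈ W' ∧
      M.presheaf.map j.op m ∈ Submodule.span Γ(X, W') (Set.range fun i => M.presheaf.map j.op (t i)) := by
  obtain ⟨c, hc⟩ := (Submodule.mem_span_range_iff_exists_fun _).1 h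
  choose U hU a ha using fun i => TopCat.Presheaf.germ_exist X.presheaf (c i)
  let W₁ : X.Opens := W ⊓ Finset.univ.inf U
  have hW₁ : y ∈ W₁ := ⟨hy, by
    show y ∈ ((Finset.univ.inf U : X.Opens) : Set X)
    simp [TopologicalSpace.Opens.coe_finset_inf, hU]⟩
  let j : W₁ ⟶ W := homOfLE inf_le_left
  let k : ∀ i, W₁ ⟶ U i := fun i => homOfLE (inf_le_right.trans (Finset.inf_le (Finset.mem_univ i)))
  let m' : Γ(M, W₁) := ∑ i, (X.presheaf.map (k i).op (a i) : Γ(X, W₁)) • M.presheaf.map j.op (t i)
  have e : M.presheaf.germ W₁ y hW₁ (M.presheaf.map j.op m) = M.presheaf.germ W₁ y hW₁ m' := by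
    rw [germ_res']
    refine hc.symm.trans ?_
    rw [map_sum]
    refine Finset.sum_congr rfl fun i _ => ?_
    refine Eq.trans ?_ (PresheafOfModules.germ_smul (M := M.val) y W₁ hW₁
      (X.presheaf.map (k i).op (a i)) (M.presheaf.map j.op (t i))).symm
    refine congrArg₂ (fun (r : X.presheaf.stalk y) (z : M.presheaf.stalk y) => r • z) ?_ (germ_res' M j hW₁ (t i)).symm
    exact (ha i).symm.trans (X.presheaf.germ_res_apply (k i) y hW₁ (a i)).symm
  obtain ⟨W', hyW', j₁, j₂, hj⟩ := M.presheaf.germ_eq y hW₁ hW₁ _ _ e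
  refine ⟨W', j₁ ≫ j, hyW', ?_⟩
  have e1 : ∀ z : Γ(M, W), M.presheaf.map (j₁ ≫ j).op z = M.presheaf.map j₁.op (M.presheaf.map j.op z) :=
    fun z => by simp only [op_comp, Functor.map_comp, ConcreteCategory.comp_apply]
  rw [e1, hj, Subsingleton.elim j₂ j₁]
  simp only [m', map_sum]
  refine Submodule.sum_mem _ fun i _ => ?_
  rw [Scheme.Modules.map_smul]
  exact Submodule.smul_mem _ _ (Submodule.subset_span ⟨i, e1 (t i)⟩)

theorem gens_span_eq_top (N : X.Modules) {U : X.Opens} (G : (SheafOfModules.over N U).GeneratingSections)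
    [Finite G.I] (x' : X) (hx' : x' ∈ U) :
    Submodule.span (X.presheaf.stalk x') (Set.range fun j =>
      N.presheaf.germ U x' hx' ((G.s j).eval (op (Over.mk (𝟙 U))) : Γ(N, U))) = ⊤ := by
  let t : G.I → Γ(N, U) := fun j => (G.s j).eval (op (Over.mk (𝟙 U)))
  rw [eq_top_iff]
  intro y _
  obtain ⟨V, hxV, m, rfl⟩ := TopCat.Presheaf.germ_exist N.presheaf y
  let V₀ : Over U := Over.mk (homOfLE inf_le_left : U ⊓ V ⟶ U)
  let m' : (SheafOfModules.over N U).val.obj (op V₀) :=
    N.presheaf.map (homOfLE inf_le_right : U ⊓ V ⟶ V).op m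
  obtain ⟨S, hS, hz⟩ := FDescent.exists_cover_eq_app G.π V₀ m'
  rw [GrothendieckTopology.mem_over_iff] at hS
  obtain ⟨W, i, hi, hxW⟩ := hS x' ⟨hx', hxV⟩
  obtain ⟨W₀, i₀, hle, hSi, -⟩ := hi
  obtain ⟨z, hz'⟩ := hz i₀ hSi
  have hxW₀ : x' ∈ W₀.left := hle.le hxW
  have hspan := FDescent.app_mem_span G (op W₀) z
  rw [hz'] at hspan
  let T := Submodule.span (X.presheaf.stalk x') (Set.range fun j => N.presheaf.germ U x' hx' (t j))
  have hj : ∀ j, N.presheaf.germ W₀.left x' hxW₀ ((G.s j).eval (op W₀)) ∈ T := fun j => by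
    have e : N.presheaf.map W₀.hom.op (t j) = (G.s j).eval (op W₀) :=
      (G.s j).property (Over.homMk W₀.hom (by simp) : W₀ ⟶ Over.mk (𝟙 U)).op
    have e' : N.presheaf.germ W₀.left x' hxW₀ ((G.s j).eval (op W₀)) = N.presheaf.germ U x' hx' (t j) :=
      (congrArg (fun w => N.presheaf.germ W₀.left x' hxW₀ w) e.symm).trans
        (TopCat.Presheaf.germ_res_apply N.presheaf W₀.hom x' hxW₀ (t j))
    exact (congrArg (· ∈ T) e').mpr (Submodule.subset_span ⟨j, rfl⟩)
  have hmem : N.presheaf.germ W₀.left x' hxW₀ (N.presheaf.map i₀.left.op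
      (N.presheaf.map (homOfLE inf_le_right : U ⊓ V ⟶ V).op m)) ∈ T :=
    FDescent.germ_mem_span hxW₀ (fun j => (G.s j).eval (op W₀)) T hj _ hspan
  have e1 : N.presheaf.germ W₀.left x' hxW₀ (N.presheaf.map i₀.left.op
      (N.presheaf.map (homOfLE inf_le_right : U ⊓ V ⟶ V).op m)) = N.presheaf.germ V x' hxV m :=
    (TopCat.Presheaf.germ_res_apply N.presheaf i₀.left x' hxW₀ _).trans
      (TopCat.Presheaf.germ_res_apply N.presheaf (homOfLE inf_le_right : U ⊓ V ⟶ V) x' ⟨hx', hxV⟩ m)
  exact (congrArg (· ∈ T) e1).mp hmem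

/-- Sections of a module of finite type generating one stalk generate all nearby stalks. -/
theorem exists_nhd_span_eq_top (N : X.Modules) [hN : SheafOfModules.IsFiniteType (R := X.ringCatSheaf) N]
    {U₀ : X.Opens} {n : ℕ} (w : Fin n → Γ(N, U₀)) {x : X} (hx : x ∈ U₀)
    (h : Submodule.span (X.presheaf.stalk x) (Set.range fun i => N.presheaf.germ U₀ x hx (w i)) = ⊤) :
    ∃ (U : X.Opens) (hle : U ≤ U₀), x ∈ U ∧ ∀ (x' : X) (hx' : x' ∈ U),
      Submodule.span (X.presheaf.stalk x') (Set.range fun i => N.presheaf.germ U₀ x' (hle hx') (w i)) = ⊤ := by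
  obtain ⟨σ, hσ⟩ := hN.exists_localGeneratorsData
  obtain ⟨k, hk⟩ := ((Opens.coversTop_iff _ σ.X).1 σ.coversTop).exists_mem x
  let G := σ.generators k
  haveI : Finite G.I := (hσ.isFiniteType k).finite
  haveI := Fintype.ofFinite G.I
  let U : X.Opens := σ.X k
  let t : G.I → Γ(N, U) := fun j => (G.s j).eval (op (Over.mk (𝟙 U)))
  have hgen : ∀ (x' : X) (hx' : x' ∈ U),
      Submodule.span (X.presheaf.stalk x') (Set.range fun j => N.presheaf.germ U x' hx' (t j)) = ⊤ :=
    gens_span_eq_top N G
  let U₁ : X.Opens := U ⊓ U₀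
  let a : U₁ ⟶ U := homOfLE inf_le_left
  let b : U₁ ⟶ U₀ := homOfLE inf_le_right
  have hloc : ∀ j, ∃ (W' : X.Opens) (l : W' ⟶ U₁), x ∈ W' ∧ N.presheaf.map l.op (N.presheaf.map a.op (t j)) ∈
      Submodule.span Γ(X, W') (Set.range fun i => N.presheaf.map l.op (N.presheaf.map b.op (w i))) := fun j => by
    refine exists_res_mem_span N _ _ ⟨hk, hx⟩ ?_
    simp only [germ_res']
    rw [h]
    exact Submodule.mem_top
  choose W' l hxW' hmem using hloc
  refine ⟨U₁ ⊓ Finset.univ.inf W', inf_le_left.trans inf_le_right, ⟨⟨hk, hx⟩, ?_⟩, fun x' hx' => ?_⟩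
  · show x ∈ ((Finset.univ.inf W' : X.Opens) : Set X)
    simp [TopologicalSpace.Opens.coe_finset_inf, hxW']
  have hx'U₁ : x' ∈ U₁ := hx'.1
  have hx'U : x' ∈ U := a.le hx'U₁
  have hx'0 : x' ∈ U₀ := b.le hx'U₁
  let T : Submodule (X.presheaf.stalk x') (N.presheaf.stalk x') :=
    Submodule.span (X.presheaf.stalk x') (Set.range fun i => N.presheaf.germ U₀ x' hx'0 (w i))
  show T = ⊤
  refine eq_top_iff.2 (le_of_eq_of_le (hgen x' hx'U).symm (Submodule.span_le.2 ?_))
  rintro _ ⟨j, rfl⟩
  have hx'W : x' ∈ W' j := (Finset.inf_le (f := W') (Finset.mem_univ j)) hx'.2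
  have hgm : ∀ i, N.presheaf.germ (W' j) x' hx'W (N.presheaf.map (l j).op (N.presheaf.map b.op (w i))) ∈ T :=
    fun i => by
      have e1 : N.presheaf.germ (W' j) x' hx'W (N.presheaf.map (l j).op (N.presheaf.map b.op (w i))) =
          N.presheaf.germ U₀ x' hx'0 (w i) :=
        (germ_res' N (l j) hx'W _).trans (germ_res' N b hx'U₁ (w i))
      exact (congrArg (· ∈ T) e1).mpr (Submodule.subset_span (Set.mem_range_self i))
  have hm := germ_mem_span' (M := N) hx'W (fun i => N.presheaf.map (l j).op (N.presheaf.map b.op (w i))) T hgm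
    (N.presheaf.map (l j).op (N.presheaf.map a.op (t j))) (hmem j)
  have e2 : N.presheaf.germ (W' j) x' hx'W (N.presheaf.map (l j).op (N.presheaf.map a.op (t j))) =
      N.presheaf.germ U x' hx'U (t j) :=
    (germ_res' N (l j) hx'W _).trans (germ_res' N a hx'U₁ (t j))
  show N.presheaf.germ U x' hx'U (t j) ∈ T
  exact (congrArg (· ∈ T) e2).mp hm

/-- Sections generating every stalk give generating sections. -/
theorem exists_generatingSections (F : Y.Modules) {V : Y.Opens} {n : ℕ} (t : Fin n → Γ(F, V))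
    (h : ∀ (y : Y) (hy : y ∈ V),
      Submodule.span (Y.presheaf.stalk y) (Set.range fun i => F.presheaf.germ V y hy (t i)) = ⊤) :
    ∃ G : (SheafOfModules.over F V).GeneratingSections, G.IsFiniteType ∧ Nat.card G.I = n := by
  let s : ULift.{u} (Fin n) → (SheafOfModules.over F V).sections := fun i =>
    PresheafOfModules.sectionsMk (fun W => F.presheaf.map W.unop.hom.op (t i.down)) fun W₁ W₂ g => by
      show F.presheaf.map g.unop.left.op (F.presheaf.map W₁.unop.hom.op (t i.down)) = _
      rw [← ConcreteCategory.comp_apply, ← F.presheaf.map_comp, ← op_comp, Over.w]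
  have hepi : Epi ((SheafOfModules.over F V).freeHomEquiv.symm s) := by
    constructor
    intro Z g g' e
    have hs : ∀ i W, g.val.app W ((s i).eval W) = g'.val.app W ((s i).eval W) := fun i W => by
      have h1 := congrArg (fun q => (SheafOfModules.freeHomEquiv Z q i).eval W) e
      simp only [SheafOfModules.freeHomEquiv_comp_apply, Equiv.apply_symm_apply] at h1
      exact h1
    refine SheafOfModules.hom_ext (PresheafOfModules.Hom.ext (funext fun W => ModuleCat.hom_ext (LinearMap.ext fun m => ?_)))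
    have hZ : Presieve.IsSheaf ((Opens.grothendieckTopology Y).over V) (Z.val.presheaf ⋙ forget AddCommGrpCat) :=
      (CategoryTheory.isSheaf_iff_isSheaf_of_type _ _).1
        ((Presheaf.isSheaf_iff_isSheaf_forget _ _ (forget AddCommGrpCat)).1 Z.isSheaf)
    let S : Sieve W.unop :=
      { arrows := fun W' i => g.val.app (op W') ((SheafOfModules.over F V).val.map i.op m) =
          g'.val.app (op W') ((SheafOfModules.over F V).val.map i.op m)
        downward_closed := fun {A B} f hf k => by
          show g.val.app (op B) ((SheafOfModules.over F V).val.map (k ≫ f).op m) =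
            g'.val.app (op B) ((SheafOfModules.over F V).val.map (k ≫ f).op m)
          have e1 : ∀ z, (SheafOfModules.over F V).val.map (k ≫ f).op z =
              (SheafOfModules.over F V).val.map k.op ((SheafOfModules.over F V).val.map f.op z) := fun z =>
            congr($((SheafOfModules.over F V).val.presheaf.map_comp f.op k.op) z)
          rw [e1]
          refine (PresheafOfModules.naturality_apply g.val k.op _).trans ?_
          refine Eq.trans ?_ (PresheafOfModules.naturality_apply g'.val k.op _).symm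
          exact congrArg (Z.val.map k.op) hf }
    have hS : S ∈ (Opens.grothendieckTopology Y).over V W.unop := by
      rw [GrothendieckTopology.mem_over_iff]
      intro y hy
      have hyV : y ∈ V := W.unop.hom.le hy
      obtain ⟨W', j, hyW', hmem⟩ := exists_res_mem_span F (fun i => F.presheaf.map W.unop.hom.op (t i)) m hy
        (by
          simp only [germ_res']
          rw [h y hyV]
          exact Submodule.mem_top)
      let A : Over V := Over.mk (j ≫ W.unop.hom)
      let i : A ⟶ W.unop := Over.homMk j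
      refine ⟨W', j, ⟨A, i, 𝟙 _, ?_, rfl⟩, hyW'⟩
      show g.val.app (op A) ((SheafOfModules.over F V).val.map i.op m) =
        g'.val.app (op A) ((SheafOfModules.over F V).val.map i.op m)
      let φ : (SheafOfModules.over F V).val.obj (op A) →ₗ[_] Z.val.obj (op A) := (g.val.app (op A)).hom
      let φ' : (SheafOfModules.over F V).val.obj (op A) →ₗ[_] Z.val.obj (op A) := (g'.val.app (op A)).hom
      refine LinearMap.eqOn_span (f := φ) (g := φ') ?_ hmem
      rintro _ ⟨l, rfl⟩
      have e1 : F.presheaf.map j.op (F.presheaf.map W.unop.hom.op (t l)) = (s ⟨l⟩).eval (op A) := by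
        show _ = F.presheaf.map (j ≫ W.unop.hom).op (t l)
        rw [op_comp, Functor.map_comp, ConcreteCategory.comp_apply]
      show φ (F.presheaf.map j.op (F.presheaf.map W.unop.hom.op (t l))) =
        φ' (F.presheaf.map j.op (F.presheaf.map W.unop.hom.op (t l)))
      rw [e1]
      exact hs ⟨l⟩ (op A)
    refine (hZ.isSeparated S hS).ext fun W' i hi => ?_
    exact ((PresheafOfModules.naturality_apply g.val i.op m).symm.trans
      ((show g.val.app (op W') _ = g'.val.app (op W') _ from hi))).trans
        (PresheafOfModules.naturality_apply g'.val i.op m)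
  exact ⟨⟨ULift.{u} (Fin n), s, hepi⟩, ⟨inferInstanceAs (Finite (ULift.{u} (Fin n)))⟩, by simp⟩

theorem span_eq_top_of_extend {R S : CommRingCat.{u}} (φ : R ⟶ S) (hφ : φ.hom.Flat) [IsLocalRing R] [IsLocalRing S]
    [IsLocalHom φ.hom] {M : ModuleCat.{u} R} {ι : Type*} (g : ι → M)
    (h : Submodule.span S (Set.range fun i => KFlatLib.u1 φ.hom M (g i)) = ⊤) :
    Submodule.span R (Set.range g) = ⊤ := by
  letI := φ.hom.toAlgebra
  haveI : IsLocalHom (algebraMap R S) := inferInstanceAs (IsLocalHom φ.hom)
  haveI : Module.Flat R S := hφ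
  haveI : Module.FaithfullyFlat R S := Module.FaithfullyFlat.of_flat_of_isLocalHom
  let T := Submodule.span R (Set.range g)
  have h0 : ∀ z : S ⊗[R] M, T.mkQ.baseChange S z = 0 := by
    intro z
    have hz : z ∈ Submodule.span S (Set.range fun i => (1 : S) ⊗ₜ[R] g i) := by
      have : Submodule.span S (Set.range fun i => (1 : S) ⊗ₜ[R] g i) = (⊤ : Submodule S (S ⊗[R] M)) := h
      rw [this]
      exact Submodule.mem_top
    induction hz using Submodule.span_induction with
    | mem a ha =>
      obtain ⟨i, rfl⟩ := ha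
      rw [LinearMap.baseChange_tmul, Submodule.mkQ_apply,
        (Submodule.Quotient.mk_eq_zero T).2 (Submodule.subset_span ⟨i, rfl⟩), TensorProduct.tmul_zero]
    | zero => rw [map_zero]
    | add a b _ _ ha hb => rw [map_add, ha, hb, add_zero]
    | smul r a _ ha => rw [map_smul, ha, smul_zero]
  have hsurj : Function.Surjective (T.mkQ.lTensor S) := LinearMap.lTensor_surjective S T.mkQ_surjective
  have : Subsingleton (S ⊗[R] (M ⧸ T)) := by
    refine subsingleton_of_forall_eq 0 fun z => ?_
    obtain ⟨z, rfl⟩ := hsurj z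
    exact h0 z
  haveI : Subsingleton (M ⧸ T) := (Module.FaithfullyFlat.subsingleton_tensorProduct_iff_right R S).1 this
  exact Submodule.Quotient.subsingleton_iff.1 ‹_›

theorem span_extend_eq_top {R S : CommRingCat.{u}} (φ : R ⟶ S) {M : ModuleCat.{u} R} {ι : Type*} (g : ι → M)
    (h : Submodule.span R (Set.range g) = ⊤) :
    Submodule.span S (Set.range fun i => KFlatLib.u1 φ.hom M (g i)) = ⊤ := by
  letI := φ.hom.toAlgebra
  suffices H : Submodule.span S (Set.range fun i => (1 : S) ⊗ₜ[R] g i) = (⊤ : Submodule S (S ⊗[R] M)) from H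
  rw [eq_top_iff]
  rintro z -
  induction z using TensorProduct.induction_on with
  | zero => exact zero_mem _
  | add a b ha hb => exact add_mem ha hb
  | tmul c m =>
    have hm : m ∈ Submodule.span R (Set.range g) := h ▸ Submodule.mem_top
    induction hm using Submodule.span_induction generalizing c with
    | mem a ha =>
      obtain ⟨i, rfl⟩ := ha
      have := Submodule.smul_mem (Submodule.span S (Set.range fun i => (1 : S) ⊗ₜ[R] g i)) c
        (Submodule.subset_span ⟨i, rfl⟩)
      rwa [TensorProduct.smul_tmul', smul_eq_mul, mul_one] at this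
    | zero => rw [TensorProduct.tmul_zero]; exact zero_mem _
    | add a b _ _ ha hb => rw [TensorProduct.tmul_add]; exact add_mem (ha c) (hb c)
    | smul r a _ ha =>
      rw [← TensorProduct.smul_tmul]
      exact ha _

theorem finite_of_extend {R S : CommRingCat.{u}} (φ : R ⟶ S) (hφ : φ.hom.Flat) [IsLocalRing R] [IsLocalRing S]
    [IsLocalHom φ.hom] {M : ModuleCat.{u} R} (h : Module.Finite S ((ModuleCat.extendScalars φ.hom).obj M)) :
    Module.Finite R M := by
  letI := φ.hom.toAlgebra
  haveI : IsLocalHom (algebraMap R S) := inferInstanceAs (IsLocalHom φ.hom)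
  haveI : Module.Flat R S := hφ
  haveI : Module.FaithfullyFlat R S := Module.FaithfullyFlat.of_flat_of_isLocalHom
  haveI : Module.Finite S (S ⊗[R] M) := h
  exact Module.Finite.of_finite_tensorProduct_of_faithfullyFlat S

theorem isFiniteType_of_pullback (f : X ⟶ Y) [Flat f] [Surjective f]
    (hf : IsOpenMap f.base) (F : Y.Modules)
    (h : SheafOfModules.IsFiniteType (R := X.ringCatSheaf) ((Scheme.Modules.pullback f).obj F)) :
    SheafOfModules.IsFiniteType (R := Y.ringCatSheaf) F := by
  let N := (Scheme.Modules.pullback f).obj F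
  let e := fun x => ((KFlatLib.stalkPullbackIso f x).app F).toLinearEquiv
  have key : ∀ (x : X) {V : Y.Opens} (hx : f.base x ∈ V) (t : Γ(F, V)),
      e x (N.presheaf.germ (f ⁻¹ᵁ V) x hx (KFlatLib.pb f t)) =
        KFlatLib.u1 (f.stalkMap x).hom ((DerSch.stalkFunctor Y (f.base x)).obj F)
          (F.presheaf.germ V (f.base x) hx t) :=
    fun x V hx t => KFlatLib.stalkPullbackIso_gm f x F V hx t
  have hloc : ∀ y : Y, ∃ V : Y.Opens, y ∈ V ∧
      ∃ G : (SheafOfModules.over F V).GeneratingSections, G.IsFiniteType := by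
    intro y
    obtain ⟨x, rfl⟩ := f.surjective y
    haveI : Module.Finite (X.presheaf.stalk x) ((DerSch.stalkFunctor X x).obj N) := FDescent.finite_stalk N x
    haveI : Module.Finite (X.presheaf.stalk x) ((Scheme.Modules.pullback f ⋙ DerSch.stalkFunctor X x).obj F) :=
      inferInstanceAs (Module.Finite (X.presheaf.stalk x) ((DerSch.stalkFunctor X x).obj N))
    haveI := finite_of_extend (f.stalkMap x) (Flat.stalkMap f x)
      (M := (DerSch.stalkFunctor Y (f.base x)).obj F) (Module.Finite.equiv (e x))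
    obtain ⟨n, g, hg⟩ := Module.Finite.exists_fin
      (R := Y.presheaf.stalk (f.base x)) (M := (DerSch.stalkFunctor Y (f.base x)).obj F)
    choose V hV t ht using fun i => TopCat.Presheaf.germ_exist F.presheaf (g i)
    let V₀ : Y.Opens := Finset.univ.inf V
    have hx₀ : f.base x ∈ V₀ := by
      show f.base x ∈ ((Finset.univ.inf V : Y.Opens) : Set Y)
      simp [TopologicalSpace.Opens.coe_finset_inf, hV]
    let k : ∀ i, V₀ ⟶ V i := fun i => homOfLE (Finset.inf_le (Finset.mem_univ i))
    let t₀ : Fin n → Γ(F, V₀) := fun i => F.presheaf.map (k i).op (t i)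
    have hg₀ : ∀ i, F.presheaf.germ V₀ (f.base x) hx₀ (t₀ i) = g i :=
      fun i => (germ_res' F (k i) hx₀ (t i)).trans (ht i)
    let w : Fin n → Γ(N, f ⁻¹ᵁ V₀) := fun i => KFlatLib.pb f (t₀ i)
    have hw : Submodule.span (X.presheaf.stalk x)
        (Set.range fun i => N.presheaf.germ (f ⁻¹ᵁ V₀) x hx₀ (w i)) = ⊤ := by
      refine Submodule.map_injective_of_injective (f := (e x).toLinearMap) (e x).injective ?_
      rw [Submodule.map_top, LinearMap.range_eq_top.2 (e x).surjective, Submodule.map_span, ← Set.range_comp]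
      rw [show ((e x).toLinearMap ∘ fun i => N.presheaf.germ (f ⁻¹ᵁ V₀) x hx₀ (w i)) =
        fun i => KFlatLib.u1 (f.stalkMap x).hom ((DerSch.stalkFunctor Y (f.base x)).obj F) (g i) from
        funext fun i => (key x hx₀ (t₀ i)).trans (congrArg _ (hg₀ i))]
      exact span_extend_eq_top (f.stalkMap x) g hg
    obtain ⟨U, hle, hxU, hU⟩ := exists_nhd_span_eq_top N w hx₀ hw
    let V' : Y.Opens := ⟨f.base '' U, hf _ U.2⟩
    have hV' : V' ≤ V₀ := by
      rintro _ ⟨x', hx', rfl⟩
      exact hle hx'
    have hspan : ∀ (y : Y) (hy : y ∈ V'), Submodule.span (Y.presheaf.stalk y)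
        (Set.range fun i => F.presheaf.germ V' y hy (F.presheaf.map (homOfLE hV').op (t₀ i))) = ⊤ := by
      rintro _ ⟨x', hx', rfl⟩
      simp only [germ_res']
      refine span_eq_top_of_extend (f.stalkMap x') (Flat.stalkMap f x')
        (M := (DerSch.stalkFunctor Y (f.base x')).obj F) _ ?_
      have := congrArg (Submodule.map (e x').toLinearMap) (hU x' hx')
      rw [Submodule.map_top, LinearMap.range_eq_top.2 (e x').surjective, Submodule.map_span, ← Set.range_comp] at this
      rw [← this]
      exact congrArg (fun q => Submodule.span _ (Set.range q)) (funext fun i => (key x' (hle hx') (t₀ i)).symm)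
    obtain ⟨G, hG, -⟩ := exists_generatingSections F (fun i => F.presheaf.map (homOfLE hV').op (t₀ i)) hspan
    exact ⟨V', ⟨x, hxU, rfl⟩, G, hG⟩
  choose V hV G hG using hloc
  let q : SheafOfModules.LocalGeneratorsData.{u} (R := Y.ringCatSheaf) F :=
    { I := Y, X := V,
      coversTop := (Opens.coversTop_iff _ V).2 (top_le_iff.1 fun y _ => Opens.mem_iSup.2 ⟨y, hV y⟩),
      generators := G }
  have hq : q.IsFiniteType := by
    constructor
    exact hG
  constructor
  exact ⟨q, hq⟩

end Groth.Agent.FTDescent
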