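import Groth.Agent.FTDescent.Basic
import Groth.Agent.FTDescent.FP
import Mathlib.AlgebraicGeometry.Sites.Fpqc
import Mathlib.RingTheory.LocalRing.Module
import Mathlib.LinearAlgebra.Dimension.Constructions

/-!
# Being locally generated by at most `r` sections descends along fpqc covers
-/

set_option autoImplicit false
set_option linter.style.haveILetI false
set_option backward.isDefEq.respectTransparency false
set_option backward.isDefEq.respectTransparency.types false

universe u

open CategoryTheory CategoryTheory.Limits AlgebraicGeometry Opposite TopologicalSpace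
open scoped TensorProduct

namespace Groth.Agent.FTDescent

open IsLocalRing in
theorem exists_gens_le_of_baseChange {R S M : Type u} [CommRing R] [CommRing S] [IsLocalRing R] [IsLocalRing S]
    [Algebra R S] [IsLocalHom (algebraMap R S)] [AddCommGroup M] [Module R M] [Module.Finite R M] {r : ℕ}
    (l : (Fin r → S) →ₗ[S] S ⊗[R] M) (hl : Function.Surjective l) :
    ∃ (n : ℕ) (g : Fin n → M), n ≤ r ∧ Submodule.span R (Set.range g) = ⊤ := by
  let n := Module.finrank (ResidueField R) (ResidueField R ⊗[R] M)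
  let b := Module.finBasis (ResidueField R) (ResidueField R ⊗[R] M)
  choose g hg using fun i => TensorProduct.mk_surjective R M (ResidueField R) residue_surjective (b i)
  refine ⟨n, g, ?_, span_eq_top_of_tmul_eq_basis g b hg⟩
  have h1 : Function.Surjective (l.baseChange (ResidueField S)) := LinearMap.lTensor_surjective _ hl
  have h2 : Module.finrank (ResidueField S) (ResidueField S ⊗[S] (S ⊗[R] M)) ≤ r := by
    have h3 := LinearMap.finrank_range_le (l.baseChange (ResidueField S))
    rw [LinearMap.range_eq_top.2 h1, finrank_top] at h3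
    refine h3.trans_eq ?_
    rw [Module.finrank_baseChange, Module.finrank_fin_fun]
  have e1 := TensorProduct.AlgebraTensorModule.cancelBaseChange R S (ResidueField S) (ResidueField S) M
  have e2 := TensorProduct.AlgebraTensorModule.cancelBaseChange R (ResidueField R) (ResidueField S) (ResidueField S) M
  rw [e1.finrank_eq, ← e2.finrank_eq, Module.finrank_baseChange] at h2
  exact h2

theorem exists_gens_le_of_extend {R S : CommRingCat.{u}} (φ : R ⟶ S) [IsLocalRing R] [IsLocalRing S]
    [IsLocalHom φ.hom] {M : ModuleCat.{u} R} [Module.Finite R M] {r : ℕ}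
    (l : (Fin r → S) →ₗ[S] (ModuleCat.extendScalars φ.hom).obj M) (hl : Function.Surjective l) :
    ∃ (n : ℕ) (g : Fin n → M), n ≤ r ∧ Submodule.span R (Set.range g) = ⊤ := by
  letI := φ.hom.toAlgebra
  haveI : IsLocalHom (algebraMap R S) := inferInstanceAs (IsLocalHom φ.hom)
  exact exists_gens_le_of_baseChange (R := R) (S := S) (M := M) l hl

/-- A stalk of a module locally generated by at most `r` sections is generated by `r` elements. -/
theorem exists_surjective_stalk {X : Scheme.{u}} (N : X.Modules)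
    (σ : SheafOfModules.LocalGeneratorsData.{u} (R := X.ringCatSheaf) N) (r : ℕ)
    (hσ : ∀ k, Finite (σ.generators k).I ∧ Nat.card (σ.generators k).I ≤ r) (x : X) :
    ∃ l : (Fin r → X.presheaf.stalk x) →ₗ[X.presheaf.stalk x] N.presheaf.stalk x, Function.Surjective l := by
  obtain ⟨k, hk⟩ := ((Opens.coversTop_iff _ σ.X).1 σ.coversTop).exists_mem x
  let G := σ.generators k
  haveI : Finite G.I := (hσ k).1
  let w : G.I → N.presheaf.stalk x := fun j =>
    N.presheaf.germ (σ.X k) x hk ((G.s j).eval (op (Over.mk (𝟙 (σ.X k)))) : Γ(N, σ.X k))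
  have hw : Submodule.span (X.presheaf.stalk x) (Set.range w) = ⊤ := gens_span_eq_top N G x hk
  classical
  let a : G.I → Fin r := fun j => Fin.castLE (hσ k).2 (Finite.equivFin G.I j)
  have ha : Function.Injective a := (Fin.castLE_injective _).comp (Finite.equivFin G.I).injective
  refine ⟨Fintype.linearCombination (X.presheaf.stalk x) (Function.extend a w 0), ?_⟩
  rw [← LinearMap.range_eq_top, Fintype.range_linearCombination, eq_top_iff, ← hw]
  exact Submodule.span_mono (by rintro _ ⟨j, rfl⟩; exact ⟨a j, ha.extend_apply w 0 j⟩)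

theorem isFT_of_fpqc_family {ι : Type u} {X : Scheme.{u}} {Xi : ι → Scheme.{u}} (f : ∀ i, Xi i ⟶ X)
    (hf : Presieve.ofArrows Xi f ∈ Scheme.fpqcPrecoverage X) {M : X.Modules} (hM : Coh.IsQCoh M)
    (h : ∀ i, CohB1.IsFT ((Scheme.Modules.pullback (f i)).obj M)) : CohB1.IsFT M := by
  haveI : QuasiCompactCover (⟨ι, Xi, f⟩ : PreZeroHypercover.{u} X) :=
    Scheme.presieve₀_mem_qcPrecoverage_iff.1 hf.1
  have hflat : ∀ i, Flat (f i) := ((Scheme.ofArrows_mem_precoverage_iff _).1 hf.2).2
  refine (QCoh.isFT_iff hM).2 fun ⟨V, hV⟩ => ?_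
  obtain ⟨n, a, W, hW, hUV⟩ := QuasiCompactCover.exists_isAffineOpen_of_isCompact
    (⟨ι, Xi, f⟩ : PreZeroHypercover.{u} X) hV.isCompact
  have hle : ∀ k, W k ≤ f (a k) ⁻¹ᵁ V := fun k z hz => hUV.le (Set.mem_iUnion.2 ⟨k, z, hz, rfl⟩)
  letI : ∀ k, Algebra Γ(X, V) Γ(Xi (a k), W k) := fun k => ((f (a k)).appLE V (W k) (hle k)).hom.toAlgebra
  haveI : ∀ k, Module.Flat Γ(X, V) Γ(Xi (a k), W k) := fun k => by
    haveI := hflat (a k)
    exact (f (a k)).flat_appLE hV (hW k) (hle k)
  refine ZClosLib.finite_of_forall_baseChange (fun k => Γ(Xi (a k), W k)) (fun p => ?_) fun k => ?_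
  · obtain ⟨y, hy, rfl⟩ := QCoh.exists_point hV p
    obtain ⟨k, x', hx, rfl⟩ := Set.mem_iUnion.1 (hUV.ge hy)
    refine ⟨k, (hW k).primeIdealOf ⟨x', hx⟩, PrimeSpectrum.ext (Ideal.ext fun b => ?_)⟩
    show (f (a k)).appLE V (W k) (hle k) b ∈ ((hW k).primeIdealOf ⟨x', hx⟩).asIdeal ↔ _
    rw [← not_iff_not, ← QCoh.mem_basicOpen_iff_notMem (hW k) hx, Scheme.basicOpen_appLE,
      ← QCoh.mem_basicOpen_iff_notMem hV hy]
    exact ⟨fun h => h.2, fun h => ⟨hx, h⟩⟩
  · let N := (Scheme.Modules.pullback (f (a k))).obj M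
    letI : Module Γ(X, V) Γ(N, W k) := Module.compHom _ ((f (a k)).appLE V (W k) (hle k)).hom
    haveI : IsScalarTower Γ(X, V) Γ(Xi (a k), W k) Γ(N, W k) := .of_algebraMap_smul fun _ _ => rfl
    haveI := QCoh.finite_of_isFT (QCoh.isQCoh_pullback (f (a k)) hM) (h (a k)) (hW k)
    let l : Γ(M, V) →ₗ[Γ(X, V)] Γ(N, W k) :=
      { toFun := QCoh.pullSec (f (a k)) M (hle k)
        map_add' := QCoh.pullSec_add (f (a k)) M (hle k)
        map_smul' := fun r m => QCoh.pullSec_smul (f (a k)) M (hle k) r m }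
    exact Module.Finite.equiv
      (QCoh.isBaseChange_pullback hV (f (a k)) (hW k) hM (hle k) (fun _ => rfl) l fun _ => rfl).equiv.symm

theorem exists_localGenerators_le_of_fpqc {ι : Type u} {X : Scheme.{u}} {Xi : ι → Scheme.{u}} (f : ∀ i, Xi i ⟶ X)
    (hf : Presieve.ofArrows Xi f ∈ Scheme.fpqcPrecoverage X) (F : X.Modules) (hF : Coh.IsQCoh F) (r : ℕ)
    (h : ∀ i, ∃ σ : SheafOfModules.LocalGeneratorsData.{u} (R := (Xi i).ringCatSheaf)
        ((Scheme.Modules.pullback (f i)).obj F),
      ∀ k, Finite (σ.generators k).I ∧ Nat.card (σ.generators k).I ≤ r) :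
    ∃ σ : SheafOfModules.LocalGeneratorsData.{u} (R := X.ringCatSheaf) F,
      ∀ k, Finite (σ.generators k).I ∧ Nat.card (σ.generators k).I ≤ r := by
  choose σ hσ using h
  have hft : CohB1.IsFT F := isFT_of_fpqc_family f hf hF fun i => by
    constructor
    refine ⟨σ i, ?_⟩
    constructor
    intro k
    constructor
    exact (hσ i k).1
  haveI : SheafOfModules.IsFiniteType (R := X.ringCatSheaf) F := hft
  have hloc : ∀ y : X, ∃ V : X.Opens, y ∈ V ∧ ∃ G : (SheafOfModules.over F V).GeneratingSections,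
      Finite G.I ∧ Nat.card G.I ≤ r := by
    intro y
    obtain ⟨i, x, rfl⟩ : ∃ i x, (f i).base x = y := by
      obtain ⟨i, x, hx⟩ := ((Scheme.ofArrows_mem_precoverage_iff _).1 hf.2).1 y
      exact ⟨i, x, hx⟩
    obtain ⟨l, hl⟩ := exists_surjective_stalk _ (σ i) r (hσ i) x
    let e := ((KFlatLib.stalkPullbackIso (f i) x).app F).toLinearEquiv
    let l' : (Fin r → (Xi i).presheaf.stalk x) →ₗ[(Xi i).presheaf.stalk x]
        ((Scheme.Modules.pullback (f i) ⋙ DerSch.stalkFunctor (Xi i) x).obj F) := l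
    haveI : Module.Finite (X.presheaf.stalk ((f i).base x)) ((DerSch.stalkFunctor X ((f i).base x)).obj F) :=
      FDescent.finite_stalk F _
    obtain ⟨n, g, hn, hg⟩ := exists_gens_le_of_extend ((f i).stalkMap x)
      (M := (DerSch.stalkFunctor X ((f i).base x)).obj F) (e.toLinearMap ∘ₗ l') (e.surjective.comp hl)
    choose V hV t ht using fun j => TopCat.Presheaf.germ_exist F.presheaf (g j)
    let V₀ : X.Opens := Finset.univ.inf V
    have hx₀ : (f i).base x ∈ V₀ := by
      show (f i).base x ∈ ((Finset.univ.inf V : X.Opens) : Set X)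
      simp [TopologicalSpace.Opens.coe_finset_inf, hV]
    let k : ∀ j, V₀ ⟶ V j := fun j => homOfLE (Finset.inf_le (Finset.mem_univ j))
    let t₀ : Fin n → Γ(F, V₀) := fun j => F.presheaf.map (k j).op (t j)
    have hg₀ : (fun j => F.presheaf.germ V₀ ((f i).base x) hx₀ (t₀ j)) = g :=
      funext fun j => (germ_res' F (k j) hx₀ (t j)).trans (ht j)
    obtain ⟨U, hle, hxU, hU⟩ := exists_nhd_span_eq_top F t₀ hx₀ (by rw [hg₀]; exact hg)
    obtain ⟨G, hG, hcard⟩ := exists_generatingSections F (fun j => F.presheaf.map (homOfLE hle).op (t₀ j))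
      fun y hy => by simp only [germ_res']; exact hU y hy
    exact ⟨U, hxU, G, hG.finite, hcard ▸ hn⟩
  choose V hV G hG using hloc
  exact ⟨{ I := X, X := V,
           coversTop := (Opens.coversTop_iff _ V).2 (top_le_iff.1 fun y _ => Opens.mem_iSup.2 ⟨y, hV y⟩),
           generators := G }, hG⟩

end Groth.Agent.FTDescent
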